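import Groth.Prelude.Def_KSix
import Groth.Agent.Dcoh.FinLocFree
import Groth.Agent.PerfB.TensInv
import Groth.Agent.Grpsch.PicGrp
import Groth.Agent.Ega2.QCohLocal
import Groth.Agent.Ega2.AmpleGlobGen
import Mathlib.CategoryTheory.ObjectProperty.FiniteProducts

/-!
# The additive category of finite sums of negative powers of an ample family

Members are finite locally free; the property is closed under isomorphisms and contains zero.
-/

set_option autoImplicit false
universe u v w
open CategoryTheory CategoryTheory.Limits AlgebraicGeometry TopologicalSpace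

namespace Groth.Agent.Pic13.H940.AddL

variable {X : Scheme.{u}}

theorem isInvertible_of_iso {M N : X.Modules} (e : M ≅ N) (h : PicF.IsInvertible M) :
    PicF.IsInvertible N := by
  intro x
  obtain ⟨U, hx, ⟨f⟩⟩ := h x
  exact ⟨U, hx, ⟨((Scheme.Modules.restrictFunctor U.ι).mapIso e).symm ≪≫ f⟩⟩

/-- If `N ⊗ K ≅ O_X` with `K` invertible, then `N` is invertible. -/
theorem isInvertible_of_tensor_iso {N K : X.Modules} (hK : PicF.IsInvertible K)
    (e : CohB1.tensorMod N K ≅ Coh.structureModule X) : PicF.IsInvertible N := by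
  obtain ⟨K', hK', ⟨e'⟩⟩ := Grpsch.PicGrp.exists_inverse hK
  let Φ := DCoh.tensorRightMod K'
  let θ : Φ.obj (CohB1.tensorMod N K) ≅ N := (PerfB.TensInv.tensorInvIso e').app N
  let i : N ≅ K' := θ.symm ≪≫ Φ.mapIso e ≪≫ Ega2.Tens.lunit K'
  exact isInvertible_of_iso i.symm hK'

theorem isInvertible_of_isNegPower {ι : Type v} {L : ι → X.Modules}
    (hL : ∀ i, PicF.IsInvertible (L i)) {N : X.Modules} (hN : KSix.IsNegPower L N) :
    PicF.IsInvertible N := by
  obtain ⟨i, k, -, ⟨e⟩⟩ := hN
  exact isInvertible_of_tensor_iso (Fdesc.LocGen.isInvertible_tensorPow (hL i) k) e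

/-- The property of being finite locally free. -/
def flf (X : Scheme.{u}) : ObjectProperty X.Modules := fun M => FlatMod.IsFinLocFree M

instance : (flf X).IsClosedUnderIsomorphisms where
  of_iso e h := Dcoh.FinLocFree.isFinLocFree_of_iso e h

instance : (flf X).ContainsZero where
  exists_zero := ⟨_, isZero_zero _, Dcoh.FinLocFree.isFinLocFree_of_isZero (isZero_zero _)⟩

instance : (flf X).IsClosedUnderBinaryCoproducts where
  colimitsOfShape_le := by
    rintro M ⟨p⟩
    have h1 : flf X (p.diag.obj ⟨WalkingPair.left⟩) := p.prop_diag_obj _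
    have h2 : flf X (p.diag.obj ⟨WalkingPair.right⟩) := p.prop_diag_obj _
    have e : M ≅ (p.diag.obj ⟨WalkingPair.left⟩) ⊞ (p.diag.obj ⟨WalkingPair.right⟩) :=
      p.isColimit.coconePointsIsoOfNatIso (BinaryBiproduct.isColimit _ _) (diagramIsoPair p.diag)
    exact (flf X).prop_of_iso e.symm (Dcoh.FinLocFree.isFinLocFree_biprod h1 h2)

instance : (flf X).IsClosedUnderFiniteCoproducts := .mk'

theorem isFinLocFree_biproduct {J : Type w} [Finite J] (M : J → X.Modules)
    (h : ∀ j, FlatMod.IsFinLocFree (M j)) : FlatMod.IsFinLocFree (⨁ M) :=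
  Dcoh.FinLocFree.isFinLocFree_of_iso (biproduct.isoCoproduct M).symm ((flf X).prop_coproduct h)

theorem isFinLocFree_of_isInvertible {M : X.Modules} (h : PicF.IsInvertible M) :
    FlatMod.IsFinLocFree M :=
  Ega2.QCohLocal.isFinLocFree_of_rank (Ega2.QCohLocal.isFinLocFreeOfRank_one_iff.mpr h)

theorem isFinLocFree_of_inAddL {ι : Type v} {L : ι → X.Modules}
    (hL : ∀ i, PicF.IsInvertible (L i)) {M : X.Modules} (hM : KSix.InAddL L M) :
    FlatMod.IsFinLocFree M := by
  obtain ⟨k, N, hN, ⟨e⟩⟩ := hM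
  exact Dcoh.FinLocFree.isFinLocFree_of_iso e.symm (isFinLocFree_biproduct N fun j =>
    isFinLocFree_of_isInvertible (isInvertible_of_isNegPower hL (hN j)))

/-- Finite sums of negative powers of members of the family `L`. -/
def addL {ι : Type v} (L : ι → X.Modules) : ObjectProperty X.Modules := fun M => KSix.InAddL L M

instance {ι : Type v} (L : ι → X.Modules) : (addL L).IsClosedUnderIsomorphisms where
  of_iso := by
    rintro M M' e ⟨k, N, hN, ⟨i⟩⟩
    exact ⟨k, N, hN, ⟨e.symm ≪≫ i⟩⟩

theorem inAddL_of_isZero {ι : Type v} (L : ι → X.Modules) {M : X.Modules} (hM : IsZero M) :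
    KSix.InAddL L M := by
  refine ⟨0, Fin.elim0, fun j => j.elim0, ⟨hM.iso ?_⟩⟩
  rw [IsZero.iff_id_eq_zero]
  ext j
  exact j.elim0

instance {ι : Type v} (L : ι → X.Modules) : (addL L).ContainsZero where
  exists_zero := ⟨_, isZero_zero _, inAddL_of_isZero L (isZero_zero _)⟩

end Groth.Agent.Pic13.H940.AddL
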