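import Groth.Prelude.Def_KSix
import Groth.Agent.PerfB.ResolLift
import Groth.Agent.PerfA.PCohQCoh
import Groth.Agent.S0889
import Groth.Agent.S0890

/-!
# Global resolutions of pseudo-coherent complexes

Let `P` be a class of finite locally free modules on a quasi-compact quasi-separated scheme such that
every quasi-coherent module of finite type is a quotient of a member of `P`.  Then every
pseudo-coherent object with bounded cohomology is represented by a bounded above complex with terms in `P`.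
-/

set_option autoImplicit false
universe u
open CategoryTheory CategoryTheory.Limits AlgebraicGeometry TopologicalSpace
attribute [local instance] HasDerivedCategory.standard

namespace Groth.Agent.Pic13.H940.GlobRes

open Groth.Agent.Dcoh Groth.Agent.Dcoh.StrPerf Groth.Agent.PerfB.LeftRes
  Groth.Agent.PerfB.ResolTrunc Groth.Agent.PerfB.ResolLocal Groth.Agent.PerfA.QCohSerre
  Groth.Agent.PerfB.ResolMain Groth.Agent.PerfB.ResolLift Groth.Agent.PerfB.ResolQCx

variable {X : Scheme.{u}}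

/-- The top cohomology sheaf of a pseudo-coherent object is of finite type. -/
theorem isFT_HD_of_isPseudoCoherentD (K : DCoh.D X) (n : ℤ) (hK : DCoh.IsPseudoCoherentD n K)
    (h : ∀ i, n < i → IsZero (DCoh.HD K i)) : CohB1.IsFT (DCoh.HD K n) :=
  (Groth.Agent.S0890.result n K hK).1 h

/-- The covering property needed to construct resolutions by members of `P`. -/
theorem exists_cover [CompactSpace ↥X] [QuasiSeparatedSpace ↥X] (P : ObjectProperty X.Modules)
    (hP : ∀ M, P M → FlatMod.IsFinLocFree M)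
    (hgen : ∀ F : X.Modules, Coh.IsQCoh F → CohB1.IsFT F → ∃ (M : X.Modules) (π : M ⟶ F), P M ∧ Epi π)
    (K : CochainComplex X.Modules ℤ) (b : ℤ) (hq : ∀ n, Coh.IsQCoh (K.X n)) (n : ℤ)
    (hK : DCoh.IsPseudoCoherentD n (DCoh.toD X K)) (S : Stage P K b (n + 1)) :
    ∃ X, P X ∧ ∃ z : X ⟶ (CochainComplex.mappingCone S.f).cycles n,
      Epi (z ≫ (CochainComplex.mappingCone S.f).homologyπ n) := by
  have hF : DCoh.IsStrictlyPerfect S.F := ⟨⟨n + 1, b, fun i hi => by
    rcases hi with hi | hi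
    · exact S.zeroLT i hi
    · exact S.zeroGT i hi⟩, fun i => hP _ (S.prop i)⟩
  have hFq : ∀ i, Coh.IsQCoh (S.F.X i) := fun i => PerfB.ResolQC.isQCoh_of_isFinLocFree (hF.2 i)
  have hCq := isQCoh_mappingCone_X S.f hFq hq
  have hC : DCoh.IsPseudoCoherentD n (DerivedCategory.Q.obj (CochainComplex.mappingCone S.f)) :=
    (Groth.Agent.S0889.result n _ (DerivedCategory.mappingCone_triangle_distinguished S.f)).1
      (PerfA.PCohQCoh.isPseudoCoherentD_of_isPerfect (LocalD.isPerfect_Q hF) (n + 1)) hK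
  have hft : CohB1.IsFT ((CochainComplex.mappingCone S.f).homology n) :=
    CohqB.FiniteType.IsFT.of_iso (isFT_HD_of_isPseudoCoherentD _ n hC fun i hi =>
      (exactAt_iff_isZero_HD _ i).1 (S.exactAt_mappingCone i hi)) (homologyQ _ n)
  obtain ⟨M, j, hM, hM', -, hj⟩ := PerfC.FTExt.exists_isFT_mono_epi (isQCoh_cycles _ hCq n)
    (isQCoh_homology _ hCq n) hft ((CochainComplex.mappingCone S.f).homologyπ n)
  obtain ⟨E, π, hE, hπ⟩ := hgen M hM hM'
  refine ⟨E, hE, π ≫ j, ?_⟩
  rw [Category.assoc]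
  exact epi_comp' hπ hj

theorem hasResolutionProperty (P : ObjectProperty X.Modules)
    (hP : ∀ M, P M → FlatMod.IsFinLocFree M)
    (hgen : ∀ F : X.Modules, Coh.IsQCoh F → CohB1.IsFT F → ∃ (M : X.Modules) (π : M ⟶ F), P M ∧ Epi π) :
    PerfAux.HasResolutionProperty X := fun F hF hF' => by
  obtain ⟨M, π, hM, hπ⟩ := hgen F hF hF'
  exact ⟨M, π, hP M hM, hπ⟩

/-- Every object with bounded quasi-coherent cohomology is represented by a bounded complex of
quasi-coherent modules. -/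
theorem exists_qcoh_complex [CompactSpace ↥X] [QuasiSeparatedSpace ↥X]
    (hX : PerfAux.HasResolutionProperty X) (K : DCoh.D X) (hK : DCoh.IsQCohD K) (a b : ℤ)
    [K.IsGE a] [K.IsLE b] :
    ∃ M : CochainComplex X.Modules ℤ, M.IsStrictlyGE a ∧ M.IsStrictlyLE b ∧
      (∀ n, Coh.IsQCoh (M.X n)) ∧ Nonempty (DCoh.toD X M ≅ K) := by
  obtain ⟨-, -, h3⟩ := incl_spec X hX
  obtain ⟨M, ⟨e⟩⟩ := (h3 K).1 hK
  have h4 : ((incl X).obj M).IsGE a := DerivedCategory.TStructure.t.isGE_of_iso e.symm a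
  have h5 : ((incl X).obj M).IsLE b := DerivedCategory.TStructure.t.isLE_of_iso e.symm b
  have := isGE_of_incl M a
  have := isLE_of_incl M b
  obtain ⟨M', hM'₁, hM'₂, ⟨e'⟩⟩ := DerivedCategory.exists_iso_Q_obj_of_isGE_of_isLE M a b
  exact ⟨(inclCx X).obj M', isStrictlyGE_inclCx M' a, isStrictlyLE_inclCx M' b, isQCoh_inclCx M',
    ⟨(inclQ.app M').symm ≪≫ (incl X).mapIso e'.symm ≪≫ e⟩⟩

/-- Global resolutions of pseudo-coherent complexes with bounded cohomology. -/
theorem exists_resolution_pc [CompactSpace ↥X] [QuasiSeparatedSpace ↥X] (P : ObjectProperty X.Modules)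
    [P.IsClosedUnderIsomorphisms] [P.ContainsZero] (hP : ∀ M, P M → FlatMod.IsFinLocFree M)
    (hgen : ∀ F : X.Modules, Coh.IsQCoh F → CohB1.IsFT F → ∃ (M : X.Modules) (π : M ⟶ F), P M ∧ Epi π)
    (E : DCoh.D X) (hE : ∀ k : ℤ, DCoh.IsPseudoCoherentD k E) (a b : ℤ) [E.IsGE a] [E.IsLE b] :
    ∃ F : CochainComplex X.Modules ℤ, (∀ i : ℤ, b < i → IsZero (F.X i)) ∧ (∀ i : ℤ, P (F.X i)) ∧
      Nonempty (DCoh.toD X F ≅ E) := by
  obtain ⟨M, hM₁, hM₂, hM₃, ⟨e⟩⟩ := exists_qcoh_complex (hasResolutionProperty P hP hgen) E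
    (PerfA.PCohQCoh.isQCohD_of_isPseudoCoherentD hE) a b
  obtain ⟨F, f, hF₁, hF₂, hf⟩ := exists_resolution (P := P) M b
    (fun i hi => HomologicalComplex.ExactAt.of_isZero (M.isZero_of_isStrictlyLE b i hi))
    (fun n _ S => exists_cover P hP hgen M b hM₃ n
      (PerfA.PerfLocal.isPseudoCoherentD_of_iso e.symm (hE n)) S)
  refine ⟨F, hF₁, hF₂, ⟨?_⟩⟩
  rw [← DerivedCategory.isIso_Q_map_iff_quasiIso] at hf
  exact asIso (DerivedCategory.Q.map f) ≪≫ e

end Groth.Agent.Pic13.H940.GlobRes
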