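import Groth.Agent.Pic13.H940.AddL
import Groth.Agent.Pic13.H940.GlobRes
import Groth.Agent.Pic13.H936.AmpFam

/-!
# Global resolutions of pseudo-coherent complexes by sums of negative powers of an ample family
-/

set_option autoImplicit false
universe u v
open CategoryTheory CategoryTheory.Limits AlgebraicGeometry TopologicalSpace
attribute [local instance] HasDerivedCategory.standard

namespace Groth.Agent.Pic13.H940.PcRes

theorem exists_resolution {X : Scheme.{u}} {ι : Type v} (L : ι → X.Modules)
    (hL : KSix.IsAmpleFamily L) (E : DCoh.D X) (hE : ∀ k : ℤ, DCoh.IsPseudoCoherentD k E) (a b : ℤ)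
    [E.IsGE a] [E.IsLE b] :
    ∃ (F : CochainComplex X.Modules ℤ), (∀ i : ℤ, b < i → IsZero (F.X i)) ∧
      (∀ i : ℤ, KSix.InAddL L (F.X i)) ∧ Nonempty (DCoh.toD X F ≅ E) := by
  have hc : CompactSpace X := hL.1
  have hqs : QuasiSeparatedSpace X := hL.2.1
  exact GlobRes.exists_resolution_pc (AddL.addL L)
    (fun M hM => AddL.isFinLocFree_of_inAddL hL.2.2.1 hM)
    (fun F hF hF' => H936.AmpFam.exists_inAddL L hL F hF hF') E hE a b

end Groth.Agent.Pic13.H940.PcRes
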